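import Mathlib.RingTheory.Valuation.ValuationSubring
import Mathlib.RingTheory.DiscreteValuationRing.Basic
import Mathlib.RingTheory.AdicCompletion.Basic
import Mathlib.FieldTheory.IntermediateField.Basic
import Mathlib.RingTheory.Localization.FractionRing
import Mathlib.LinearAlgebra.FiniteDimensional.Basic
import Mathlib.Data.Int.LeastGreatest

/-!
# Best approximations by a finite extension of a complete discretely valued field

`A` is a complete discrete valuation ring with fraction field `K`, `V` a valuation subring of an extension `Ω`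
of `K` which dominates `A`.  A finite-dimensional `K`-subspace of `Ω` on which the values are discrete is closed,
hence every element outside of it has a best approximation in it.
-/

set_option autoImplicit false

namespace Groth.Agent.Refuted.K972.Best

open IsLocalRing

section Complete

variable {A K Ω : Type*} [CommRing A] [IsDomain A] [IsDiscreteValuationRing A] [Field K] [Algebra A K]
  [IsFractionRing A K] [Field Ω] [Algebra K Ω] {V : ValuationSubring Ω}

/-- The two conditions of domination of `A` by `V`. -/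
structure Dom (A K : Type*) {Ω : Type*} [CommRing A] [IsDomain A] [IsDiscreteValuationRing A] [Field K] [Algebra A K]
    [Field Ω] [Algebra K Ω] (V : ValuationSubring Ω) : Prop where
  mem : ∀ a : A, algebraMap K Ω (algebraMap A K a) ∈ V
  lt : ∀ a ∈ maximalIdeal A, V.valuation (algebraMap K Ω (algebraMap A K a)) < 1

/-- `V ∩ K = A`. -/
theorem exists_of_le_one (h : Dom A K V) (x : K) (hx : V.valuation (algebraMap K Ω x) ≤ 1) :
    ∃ a : A, algebraMap A K a = x := by
  rcases ValuationRing.isInteger_or_isInteger A x with ⟨a, ha⟩ | ⟨a, ha⟩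
  · exact ⟨a, ha⟩
  · by_cases hu : IsUnit a
    · obtain ⟨u, rfl⟩ := hu
      refine ⟨((u⁻¹ : Aˣ) : A), ?_⟩
      have h1 : algebraMap A K ((u⁻¹ : Aˣ) : A) * algebraMap A K (u : A) = 1 := by
        rw [← map_mul, Units.inv_mul, map_one]
      rw [ha] at h1
      have h2 : x⁻¹ ≠ 0 := right_ne_zero_of_mul_eq_one h1
      have h3 : x ≠ 0 := fun h0 => h2 (by rw [h0, inv_zero])
      field_simp at h1
      exact h1
    · have h1 := h.lt a ((mem_maximalIdeal a).2 hu)
      rw [ha] at h1
      by_cases hx0 : x = 0
      · exact ⟨0, by rw [map_zero, hx0]⟩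
      · have h2 : V.valuation (algebraMap K Ω x) * V.valuation (algebraMap K Ω x⁻¹) = 1 := by
          rw [← map_mul, ← map_mul, mul_inv_cancel₀ hx0, map_one, map_one]
        have h3 : V.valuation (algebraMap K Ω x) * V.valuation (algebraMap K Ω x⁻¹) < 1 :=
          calc _ ≤ 1 * V.valuation (algebraMap K Ω x⁻¹) := mul_le_mul_left hx _
            _ = V.valuation (algebraMap K Ω x⁻¹) := one_mul _
            _ < 1 := h1
        exact absurd h2 h3.ne

/-- Elements of `K` of value `≤ v(ϖ)^n`. -/
theorem exists_of_le_pow (h : Dom A K V) {ϖ : A} (hϖ : Irreducible ϖ) (x : K) (n : ℕ)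
    (hx : V.valuation (algebraMap K Ω x) ≤ V.valuation (algebraMap K Ω (algebraMap A K ϖ)) ^ n) :
    ∃ a : A, a ∈ maximalIdeal A ^ n ∧ algebraMap A K a = x := by
  have h0 : algebraMap A K ϖ ≠ 0 := by
    rw [Ne, IsFractionRing.to_map_eq_zero_iff]
    exact hϖ.ne_zero
  have h1 : V.valuation (algebraMap K Ω (algebraMap A K ϖ)) ≠ 0 := by
    rwa [Ne, map_eq_zero, map_eq_zero]
  obtain ⟨a, ha⟩ := exists_of_le_one (A := A) h (x / algebraMap A K ϖ ^ n) (by
    rw [map_div₀, map_pow, map_div₀, map_pow]
    exact div_le_one_of_le₀ hx zero_le)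
  refine ⟨ϖ ^ n * a, ?_, ?_⟩
  · exact Ideal.mul_mem_right _ _ (Ideal.pow_mem_pow ((mem_maximalIdeal _).2 hϖ.not_isUnit) n)
  · rw [map_mul, map_pow, ha]
    field_simp

omit [IsFractionRing A K] in
/-- Elements of `m ^ n` have value `≤ v(ϖ)^n`. -/
theorem le_pow_of_mem (h : Dom A K V) {ϖ : A} (hϖ : Irreducible ϖ) (a : A) (n : ℕ) (ha : a ∈ maximalIdeal A ^ n) :
    V.valuation (algebraMap K Ω (algebraMap A K a)) ≤ V.valuation (algebraMap K Ω (algebraMap A K ϖ)) ^ n := by
  rw [hϖ.maximalIdeal_eq, Ideal.span_singleton_pow, Ideal.mem_span_singleton'] at ha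
  obtain ⟨b, rfl⟩ := ha
  rw [map_mul, map_mul, map_mul, map_pow, map_pow, map_pow]
  have h1 := (V.valuation_le_one_iff _).2 (h.mem b)
  calc _ ≤ 1 * V.valuation (algebraMap K Ω (algebraMap A K ϖ)) ^ n := mul_le_mul_left h1 _
    _ = _ := one_mul _

/-- Cauchy sequences of `K` converge. -/
theorem exists_limit [IsAdicComplete (maximalIdeal A) A] (h : Dom A K V) {ϖ : A} (hϖ : Irreducible ϖ) (c : ℕ → K)
    (hc : ∀ k, V.valuation (algebraMap K Ω (c (k + 1) - c k)) ≤
      V.valuation (algebraMap K Ω (algebraMap A K ϖ)) ^ k) :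
    ∃ l : K, ∀ k, V.valuation (algebraMap K Ω (l - c k)) ≤
      V.valuation (algebraMap K Ω (algebraMap A K ϖ)) ^ k := by
  have h1 := fun k => exists_of_le_pow h hϖ _ k (hc k)
  choose a ha ha' using h1
  let f : ℕ → A := fun k => ∑ j ∈ Finset.range k, a j
  have hf : ∀ {m n}, m ≤ n → f m ≡ f n [SMOD (maximalIdeal A ^ m • ⊤ : Ideal A)] := by
    intro m n hmn
    rw [SModEq.sub_mem, smul_eq_mul, Ideal.mul_top]
    have h2 : f m - f n = - ∑ j ∈ Finset.Ico m n, a j := by
      simp only [f]
      rw [← Finset.sum_range_add_sum_Ico _ hmn]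
      ring
    rw [h2]
    refine neg_mem (sum_mem fun j hj => ?_)
    exact Ideal.pow_le_pow_right (Finset.mem_Ico.1 hj).1 (ha j)
  obtain ⟨L, hL⟩ := IsPrecomplete.prec' (I := maximalIdeal A) f hf
  refine ⟨c 0 + algebraMap A K L, fun k => ?_⟩
  have h3 : c k = c 0 + algebraMap A K (f k) := by
    induction k with
    | zero => simp [f]
    | succ k ih =>
      have h4 : c (k + 1) = c k + algebraMap A K (a k) := by rw [ha']; ring
      rw [h4, ih]
      simp only [f]
      rw [Finset.sum_range_succ, map_add]
      ring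
  have h5 : c 0 + algebraMap A K L - c k = - algebraMap A K (f k - L) := by
    rw [h3, map_sub]
    ring
  rw [h5, map_neg, Valuation.map_neg]
  refine le_pow_of_mem h hϖ _ k ?_
  have h6 := hL k
  rw [SModEq.sub_mem, smul_eq_mul, Ideal.mul_top] at h6
  exact h6

/-- **Finite-dimensional subspaces are closed**: a linear form bound for linearly independent elements of a subfield
`M` in which no nonzero element is infinitely small. -/
theorem exists_bound [IsAdicComplete (maximalIdeal A) A] (h : Dom A K V) {ϖ : A} (hϖ : Irreducible ϖ)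
    (M : IntermediateField K Ω)
    (harch : ∀ z ∈ M, z ≠ 0 → ∃ N : ℕ, V.valuation (algebraMap K Ω (algebraMap A K ϖ)) ^ N ≤ V.valuation z)
    (n : ℕ) : ∀ (e : Fin n → Ω), (∀ i, e i ∈ M) → LinearIndependent K e →
      ∃ N : ℕ, ∀ (c : Fin n → K) (i : Fin n),
        V.valuation (algebraMap K Ω (algebraMap A K ϖ)) ^ N * V.valuation (algebraMap K Ω (c i)) ≤
          V.valuation (∑ j, c j • e j) := by
  set q := V.valuation (algebraMap K Ω (algebraMap A K ϖ)) with hq
  have hq1 : q < 1 := h.lt ϖ ((mem_maximalIdeal _).2 hϖ.not_isUnit)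
  have hq0 : q ≠ 0 := by
    rw [hq, Ne, map_eq_zero, map_eq_zero, IsFractionRing.to_map_eq_zero_iff]
    exact hϖ.ne_zero
  have hqpos : 0 < q := zero_lt_iff.2 hq0
  have hanti : ∀ {i j : ℕ}, i ≤ j → q ^ j ≤ q ^ i := fun hij => pow_right_anti₀ zero_le hq1.le hij
  induction n with
  | zero => exact fun e _ _ => ⟨0, fun c i => i.elim0⟩
  | succ n ih =>
    intro e he hli
    obtain ⟨N, hN⟩ := ih (fun i => e i.castSucc) (fun i => he _)
      (hli.comp _ (Fin.castSucc_injective n))
    -- an upper bound for the values of the `e j`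
    have hB : ∃ B : ℕ, ∀ j, q ^ B * V.valuation (e j) ≤ 1 := by
      have h1 : ∀ j, ∃ B : ℕ, q ^ B * V.valuation (e j) ≤ 1 := by
        intro j
        have hj : e j ≠ 0 := hli.ne_zero j
        obtain ⟨B, hB⟩ := harch (e j)⁻¹ (inv_mem (he j)) (inv_ne_zero hj)
        refine ⟨B, ?_⟩
        calc q ^ B * V.valuation (e j) ≤ V.valuation (e j)⁻¹ * V.valuation (e j) := mul_le_mul_left hB _
          _ = 1 := by rw [← map_mul, inv_mul_cancel₀ hj, map_one]
      choose B hB using h1
      refine ⟨∑ j, B j, fun j => ?_⟩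
      calc q ^ (∑ j, B j) * V.valuation (e j) ≤ q ^ (B j) * V.valuation (e j) :=
            mul_le_mul_left (hanti (Finset.single_le_sum (fun _ _ => Nat.zero_le _) (Finset.mem_univ j))) _
        _ ≤ 1 := hB j
    obtain ⟨B, hB⟩ := hB
    have hsum : ∀ (c : Fin n → K) (k : ℕ), (∀ j, V.valuation (algebraMap K Ω (c j)) ≤ q ^ (k + B)) →
        V.valuation (∑ j, c j • e j.castSucc) ≤ q ^ k := by
      intro c k hc
      refine V.valuation.map_sum_le fun j _ => ?_
      rw [Algebra.smul_def, map_mul]
      calc _ ≤ q ^ (k + B) * V.valuation (e j.castSucc) := mul_le_mul_left (hc j) _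
        _ = q ^ k * (q ^ B * V.valuation (e j.castSucc)) := by rw [pow_add, mul_assoc]
        _ ≤ q ^ k * 1 := mul_le_mul_right (hB _) _
        _ = q ^ k := mul_one _
    -- the distance from the last vector
    have hD : ∃ D : ℕ, ∀ c : Fin n → K, q ^ D ≤ V.valuation (e (Fin.last n) - ∑ j, c j • e j.castSucc) := by
      by_contra hcon
      push Not at hcon
      have h1 := fun k : ℕ => hcon (k + B + N)
      choose c hc using h1
      have h2 : ∀ k j, V.valuation (algebraMap K Ω (c (k + 1) j - c k j)) ≤ q ^ (k + B) := by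
        intro k j
        have h3 := hN (fun j => c (k + 1) j - c k j) j
        have h4 : ∑ j, (c (k + 1) j - c k j) • e j.castSucc =
            (e (Fin.last n) - ∑ j, c k j • e j.castSucc) - (e (Fin.last n) - ∑ j, c (k + 1) j • e j.castSucc) := by
          simp only [sub_smul, Finset.sum_sub_distrib]
          ring
        have h5 : V.valuation (∑ j, (c (k + 1) j - c k j) • e j.castSucc) ≤ q ^ (k + B + N) := by
          rw [h4]
          refine (V.valuation.map_sub _ _).trans (max_le (hc k).le ((hc (k + 1)).le.trans ?_))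
          exact hanti (by omega)
        have h6 := h3.trans h5
        rw [add_comm (k + B) N, pow_add] at h6
        exact le_of_mul_le_mul_left h6 (pow_pos hqpos N)
      have h3 : ∀ j, ∃ l : K, ∀ k, V.valuation (algebraMap K Ω (l - c k j)) ≤ q ^ (k + B) := by
        intro j
        obtain ⟨l, hl⟩ := exists_limit h hϖ (fun k => c (k - B) j) (by
          intro k
          by_cases hk : B ≤ k
          · have h4 := h2 (k - B) j
            rw [show k - B + B = k by omega, show k - B + 1 = k + 1 - B by omega] at h4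
            exact h4
          · rw [show k + 1 - B = 0 by omega, show k - B = 0 by omega, sub_self, map_zero, map_zero]
            exact zero_le)
        refine ⟨l, fun k => ?_⟩
        have h4 := hl (k + B)
        simp only [Nat.add_sub_cancel] at h4
        exact h4
      choose l hl using h3
      set z := e (Fin.last n) - ∑ j, l j • e j.castSucc with hz
      have hz0 : z ≠ 0 := by
        intro h0
        have h4 := Fintype.linearIndependent_iff.1 hli (Fin.snoc (fun j => -l j) 1) (by
          rw [Fin.sum_univ_castSucc]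
          simp only [Fin.snoc_castSucc, Fin.snoc_last, one_smul, neg_smul, Finset.sum_neg_distrib]
          rw [neg_add_eq_sub]
          exact h0) (Fin.last n)
        rw [Fin.snoc_last] at h4
        exact one_ne_zero h4
      have hzM : z ∈ M := by
        refine sub_mem (he _) (sum_mem fun j _ => ?_)
        rw [Algebra.smul_def]
        exact mul_mem (M.algebraMap_mem _) (he _)
      obtain ⟨D, hD⟩ := harch z hzM hz0
      have h5 : V.valuation z ≤ q ^ (D + 1) := by
        have h6 : z = (e (Fin.last n) - ∑ j, c (D + 1) j • e j.castSucc) -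
            ∑ j, (l j - c (D + 1) j) • e j.castSucc := by
          rw [hz]
          simp only [sub_smul, Finset.sum_sub_distrib]
          ring
        rw [h6]
        refine (V.valuation.map_sub _ _).trans (max_le ((hc (D + 1)).le.trans ?_) (hsum _ _ fun j => hl j _))
        exact hanti (by omega)
      have h6 : q ^ (D + 1) < q ^ D := pow_lt_pow_right_of_lt_one₀ hqpos hq1 (Nat.lt_succ_self D)
      exact absurd (hD.trans h5) (not_le.2 h6)
    obtain ⟨D, hD⟩ := hD
    have hlast : ∀ c : Fin (n + 1) → K, q ^ D * V.valuation (algebraMap K Ω (c (Fin.last n))) ≤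
        V.valuation (∑ j, c j • e j) := by
      intro c
      by_cases h0 : c (Fin.last n) = 0
      · rw [h0, map_zero, map_zero, mul_zero]
        exact zero_le
      · have h1 : ∑ j, c j • e j = algebraMap K Ω (c (Fin.last n)) *
            (e (Fin.last n) - ∑ j : Fin n, (- (c j.castSucc / c (Fin.last n))) • e j.castSucc) := by
          rw [Fin.sum_univ_castSucc, mul_sub, Finset.mul_sum]
          have h2 : ∀ j : Fin n, algebraMap K Ω (c (Fin.last n)) * ((-(c j.castSucc / c (Fin.last n))) • e j.castSucc)
              = -(c j.castSucc • e j.castSucc) := by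
            intro j
            rw [Algebra.smul_def, Algebra.smul_def, ← mul_assoc, ← map_mul, mul_neg, mul_div_cancel₀ _ h0, map_neg,
              neg_mul]
          rw [Finset.sum_congr rfl fun j _ => h2 j, Finset.sum_neg_distrib, sub_neg_eq_add, Algebra.smul_def,
            add_comm]
        rw [h1, map_mul, mul_comm]
        exact mul_le_mul_right (hD _) _
    refine ⟨N + D + B, fun c i => ?_⟩
    refine Fin.lastCases ?_ (fun i => ?_) i
    · refine le_trans (mul_le_mul_left ?_ _) (hlast c)
      exact hanti (by omega)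
    · have h1 := hN (fun j => c j.castSucc) i
      have h2 : ∑ j : Fin n, c j.castSucc • e j.castSucc = (∑ j, c j • e j) - c (Fin.last n) • e (Fin.last n) := by
        rw [Fin.sum_univ_castSucc]
        ring
      have h3 : q ^ (D + B) * V.valuation (c (Fin.last n) • e (Fin.last n)) ≤ V.valuation (∑ j, c j • e j) := by
        rw [Algebra.smul_def, map_mul]
        calc _ = (q ^ D * V.valuation (algebraMap K Ω (c (Fin.last n)))) * (q ^ B * V.valuation (e (Fin.last n))) := by
              rw [pow_add, mul_mul_mul_comm]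
          _ ≤ (q ^ D * V.valuation (algebraMap K Ω (c (Fin.last n)))) * 1 := mul_le_mul_right (hB _) _
          _ ≤ _ := by rw [mul_one]; exact hlast c
      have h4 : q ^ (D + B) * V.valuation (∑ j : Fin n, c j.castSucc • e j.castSucc) ≤
          V.valuation (∑ j, c j • e j) := by
        rw [h2]
        rcases le_total (V.valuation (∑ j, c j • e j)) (V.valuation (c (Fin.last n) • e (Fin.last n))) with h5 | h5
        · exact (mul_le_mul_right ((V.valuation.map_sub _ _).trans (max_le h5 le_rfl)) _).trans h3
        · calc _ ≤ 1 * V.valuation (∑ j, c j • e j) :=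
                mul_le_mul' (pow_le_one₀ zero_le hq1.le) ((V.valuation.map_sub _ _).trans (max_le le_rfl h5))
            _ = _ := one_mul _
      calc _ = q ^ (D + B) * (q ^ N * V.valuation (algebraMap K Ω (c i.castSucc))) := by
            rw [← mul_assoc, ← pow_add]; congr 2; omega
        _ ≤ q ^ (D + B) * V.valuation (∑ j : Fin n, c j.castSucc • e j.castSucc) := mul_le_mul_right h1 _
        _ ≤ _ := h4

/-- **Best approximations.**  `A` a complete discrete valuation ring with fraction field `K`, `V` a valuation subring of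
`Ω` dominating `A`, `M` a subfield of `Ω` over `K` in which every value is a power of `v w`, `v w < 1`, and `E` a subfield
of `M` finite over `K`.  Every `x` in `M` outside of `E` has a best approximation in `E`. -/
theorem main [IsAdicComplete (maximalIdeal A) A] (h : Dom A K V) {M : IntermediateField K Ω} (w : Ω)
    (hw1 : V.valuation w < 1) (hM : ∀ x ∈ M, x ≠ 0 → ∃ n : ℤ, V.valuation x = V.valuation w ^ n)
    (E : IntermediateField K Ω) (hEM : E ≤ M) [FiniteDimensional K E] (x : Ω) (hx : x ∈ M) (hxE : x ∉ E) :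
    ∃ a ∈ E, ∀ b ∈ E, V.valuation (x - a) ≤ V.valuation (x - b) := by
  obtain ⟨ϖ, hϖ⟩ := IsDiscreteValuationRing.exists_irreducible A
  set π := algebraMap K Ω (algebraMap A K ϖ) with hπ
  have hπ1 : V.valuation π < 1 := h.lt ϖ ((mem_maximalIdeal _).2 hϖ.not_isUnit)
  have hπ0 : π ≠ 0 := by
    rw [hπ, Ne, map_eq_zero, IsFractionRing.to_map_eq_zero_iff]
    exact hϖ.ne_zero
  have hπM : π ∈ M := M.algebraMap_mem _
  obtain ⟨e, he⟩ := hM π hπM hπ0
  have hw0 : V.valuation w ≠ 0 := by
    intro h0
    have h1 : V.valuation π ≠ 0 := by rwa [Ne, map_eq_zero]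
    rw [he, h0] at h1
    rw [h0] at he
    rcases eq_or_ne e 0 with h2 | h2
    · rw [h2, zpow_zero] at he
      exact absurd hπ1 (by rw [he]; exact lt_irrefl _)
    · exact h1 (zero_zpow e h2)
  have hwpos : 0 < V.valuation w := zero_lt_iff.2 hw0
  have hlt_iff : ∀ m n : ℤ, V.valuation w ^ m < V.valuation w ^ n ↔ n < m := fun m n =>
    zpow_lt_zpow_iff_right_of_lt_one₀ hwpos hw1
  have hle_iff : ∀ m n : ℤ, V.valuation w ^ m ≤ V.valuation w ^ n ↔ n ≤ m := fun m n =>
    zpow_le_zpow_iff_right_of_lt_one₀ hwpos hw1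
  have he1 : 1 ≤ e := by
    have h1 : V.valuation w ^ e < V.valuation w ^ (0 : ℤ) := by
      rw [zpow_zero, ← he]
      exact hπ1
    rw [hlt_iff] at h1
    omega
  have harch : ∀ z ∈ M, z ≠ 0 → ∃ N : ℕ, V.valuation π ^ N ≤ V.valuation z := by
    intro z hz hz0
    obtain ⟨n, hn⟩ := hM z hz hz0
    refine ⟨n.natAbs, ?_⟩
    rw [he, hn, ← zpow_natCast, ← zpow_mul, hle_iff]
    have h1 : n ≤ (n.natAbs : ℤ) := Int.le_natAbs
    have h2 : (n.natAbs : ℤ) * 1 ≤ (n.natAbs : ℤ) * e := mul_le_mul_of_nonneg_left he1 (by positivity)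
    rw [mul_comm e]
    omega
  -- `x` together with a basis of `E`
  let b := Module.finBasis K E
  let f : Fin (Module.finrank K E) → Ω := fun i => (b i : Ω)
  have hf : LinearIndependent K f := b.linearIndependent.map' E.toSubalgebra.toSubmodule.subtype
    (LinearMap.ker_eq_bot.2 Subtype.val_injective)
  have hspan : Submodule.span K (Set.range f) = E.toSubalgebra.toSubmodule := by
    have h1 : Set.range f = E.toSubalgebra.toSubmodule.subtype '' Set.range b := by
      rw [← Set.range_comp]
      rfl
    rw [h1, ← Submodule.map_span, b.span_eq, Submodule.map_top, Submodule.range_subtype]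
  have hg : LinearIndependent K (Fin.snoc f x : Fin (Module.finrank K E + 1) → Ω) := by
    rw [linearIndependent_finSnoc]
    refine ⟨hf, ?_⟩
    rw [hspan]
    exact hxE
  have hgM : ∀ i, (Fin.snoc f x : Fin (Module.finrank K E + 1) → Ω) i ∈ M := by
    intro i
    refine Fin.lastCases ?_ (fun i => ?_) i
    · rw [Fin.snoc_last]
      exact hx
    · rw [Fin.snoc_castSucc]
      exact hEM (b i).2
  obtain ⟨N, hN⟩ := exists_bound h hϖ M harch _ _ hgM hg
  have hdist : ∀ y ∈ E, V.valuation π ^ N ≤ V.valuation (x - y) := by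
    intro y hy
    have h1 := hN (Fin.snoc (fun i => - b.repr ⟨y, hy⟩ i) 1) (Fin.last _)
    rw [Fin.snoc_last, map_one, map_one, mul_one, Fin.sum_univ_castSucc] at h1
    simp only [Fin.snoc_castSucc, Fin.snoc_last, one_smul, neg_smul, Finset.sum_neg_distrib] at h1
    have h2 : ∑ i, b.repr ⟨y, hy⟩ i • f i = y := by
      have h3 := congrArg E.val (b.sum_repr ⟨y, hy⟩)
      rw [map_sum] at h3
      refine Eq.trans (Finset.sum_congr rfl fun i _ => ?_) h3
      rw [map_smul]
      rfl
    rw [h2, neg_add_eq_sub] at h1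
    exact h1
  -- the greatest exponent
  have hexp : ∀ y ∈ E, ∃ n : ℤ, V.valuation (x - y) = V.valuation w ^ n := fun y hy =>
    hM _ (sub_mem hx (hEM hy)) fun h0 => hxE (by rw [sub_eq_zero.1 h0]; exact hy)
  obtain ⟨n, ⟨a, ha, han⟩, hn⟩ := Int.exists_greatest_of_bdd
    (P := fun n : ℤ => ∃ y ∈ E, V.valuation (x - y) = V.valuation w ^ n)
    ⟨e * N, fun n ⟨y, hy, hyn⟩ => by
      have h1 := hdist y hy
      rw [he, hyn, ← zpow_natCast, ← zpow_mul, hle_iff] at h1
      exact h1⟩
    (by
      obtain ⟨n, hn⟩ := hexp 0 (zero_mem _)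
      exact ⟨n, 0, zero_mem _, hn⟩)
  refine ⟨a, ha, fun y hy => ?_⟩
  obtain ⟨m, hm⟩ := hexp y hy
  rw [han, hm, hle_iff]
  exact hn m ⟨y, hy, hm⟩

end Complete

end Groth.Agent.Refuted.K972.Best
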